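import Cfsg.Agent.Lib.Helper35.HeOrd.U0.Data

set_option Elab.async false

namespace Cfsg.Agent.Lib.Helper35.HeOrd.U0

open Cfsg.Agent.Lib.Helper35

theorem s0c0 : allBelow (fun k => fs0 (Nat.add (Nat.succ 0) k)) 2299 = true := by decide +kernel
theorem s0u0 : ∀ v, 1 ≤ v → v ≤ 2299 → fs0 v = true := slots_step fs0 0 2299 2299 (slots_zero fs0) s0c0 rfl
theorem s0c1 : allBelow (fun k => fs0 (Nat.add (Nat.succ 2299) k)) 2323 = true := by decide +kernel
theorem s0u1 : ∀ v, 1 ≤ v → v ≤ 4622 → fs0 v = true := slots_step fs0 2299 2323 4622 s0u0 s0c1 rfl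
theorem s0c2 : allBelow (fun k => fs0 (Nat.add (Nat.succ 4622) k)) 2320 = true := by decide +kernel
theorem s0u2 : ∀ v, 1 ≤ v → v ≤ 6942 → fs0 v = true := slots_step fs0 4622 2320 6942 s0u1 s0c2 rfl
theorem s0c3 : allBelow (fun k => fs0 (Nat.add (Nat.succ 6942) k)) 2327 = true := by decide +kernel
theorem s0u3 : ∀ v, 1 ≤ v → v ≤ 9269 → fs0 v = true := slots_step fs0 6942 2327 9269 s0u2 s0c3 rfl
theorem s0c4 : allBelow (fun k => fs0 (Nat.add (Nat.succ 9269) k)) 2344 = true := by decide +kernel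
theorem s0u4 : ∀ v, 1 ≤ v → v ≤ 11613 → fs0 v = true := slots_step fs0 9269 2344 11613 s0u3 s0c4 rfl
theorem s0c5 : allBelow (fun k => fs0 (Nat.add (Nat.succ 11613) k)) 2279 = true := by decide +kernel
theorem s0u5 : ∀ v, 1 ≤ v → v ≤ 13892 → fs0 v = true := slots_step fs0 11613 2279 13892 s0u4 s0c5 rfl
theorem s0c6 : allBelow (fun k => fs0 (Nat.add (Nat.succ 13892) k)) 2293 = true := by decide +kernel
theorem s0u6 : ∀ v, 1 ≤ v → v ≤ 16185 → fs0 v = true := slots_step fs0 13892 2293 16185 s0u5 s0c6 rfl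
theorem s0c7 : allBelow (fun k => fs0 (Nat.add (Nat.succ 16185) k)) 2262 = true := by decide +kernel
theorem s0u7 : ∀ v, 1 ≤ v → v ≤ 18447 → fs0 v = true := slots_step fs0 16185 2262 18447 s0u6 s0c7 rfl
theorem s0c8 : allBelow (fun k => fs0 (Nat.add (Nat.succ 18447) k)) 2210 = true := by decide +kernel
theorem s0u8 : ∀ v, 1 ≤ v → v ≤ 20657 → fs0 v = true := slots_step fs0 18447 2210 20657 s0u7 s0c8 rfl
theorem s0c9 : allBelow (fun k => fs0 (Nat.add (Nat.succ 20657) k)) 2186 = true := by decide +kernel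
theorem s0u9 : ∀ v, 1 ≤ v → v ≤ 22843 → fs0 v = true := slots_step fs0 20657 2186 22843 s0u8 s0c9 rfl
theorem s0c10 : allBelow (fun k => fs0 (Nat.add (Nat.succ 22843) k)) 2129 = true := by decide +kernel
theorem s0u10 : ∀ v, 1 ≤ v → v ≤ 24972 → fs0 v = true := slots_step fs0 22843 2129 24972 s0u9 s0c10 rfl
theorem s0c11 : allBelow (fun k => fs0 (Nat.add (Nat.succ 24972) k)) 254 = true := by decide +kernel
theorem s0u11 : ∀ v, 1 ≤ v → v ≤ 25226 → fs0 v = true := slots_step fs0 24972 254 25226 s0u10 s0c11 rfl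
theorem s1c0 : allBelow (fun k => fs1 (Nat.add (Nat.succ 0) k)) 2395 = true := by decide +kernel
theorem s1u0 : ∀ v, 1 ≤ v → v ≤ 2395 → fs1 v = true := slots_step fs1 0 2395 2395 (slots_zero fs1) s1c0 rfl
theorem s1c1 : allBelow (fun k => fs1 (Nat.add (Nat.succ 2395) k)) 2371 = true := by decide +kernel
theorem s1u1 : ∀ v, 1 ≤ v → v ≤ 4766 → fs1 v = true := slots_step fs1 2395 2371 4766 s1u0 s1c1 rfl
theorem s1c2 : allBelow (fun k => fs1 (Nat.add (Nat.succ 4766) k)) 2361 = true := by decide +kernel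
theorem s1u2 : ∀ v, 1 ≤ v → v ≤ 7127 → fs1 v = true := slots_step fs1 4766 2361 7127 s1u1 s1c2 rfl
theorem s1c3 : allBelow (fun k => fs1 (Nat.add (Nat.succ 7127) k)) 2384 = true := by decide +kernel
theorem s1u3 : ∀ v, 1 ≤ v → v ≤ 9511 → fs1 v = true := slots_step fs1 7127 2384 9511 s1u2 s1c3 rfl
theorem s1c4 : allBelow (fun k => fs1 (Nat.add (Nat.succ 9511) k)) 2367 = true := by decide +kernel
theorem s1u4 : ∀ v, 1 ≤ v → v ≤ 11878 → fs1 v = true := slots_step fs1 9511 2367 11878 s1u3 s1c4 rfl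
theorem s1c5 : allBelow (fun k => fs1 (Nat.add (Nat.succ 11878) k)) 2343 = true := by decide +kernel
theorem s1u5 : ∀ v, 1 ≤ v → v ≤ 14221 → fs1 v = true := slots_step fs1 11878 2343 14221 s1u4 s1c5 rfl
theorem s1c6 : allBelow (fun k => fs1 (Nat.add (Nat.succ 14221) k)) 2311 = true := by decide +kernel
theorem s1u6 : ∀ v, 1 ≤ v → v ≤ 16532 → fs1 v = true := slots_step fs1 14221 2311 16532 s1u5 s1c6 rfl
theorem s1c7 : allBelow (fun k => fs1 (Nat.add (Nat.succ 16532) k)) 2288 = true := by decide +kernel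
theorem s1u7 : ∀ v, 1 ≤ v → v ≤ 18820 → fs1 v = true := slots_step fs1 16532 2288 18820 s1u6 s1c7 rfl
theorem s1c8 : allBelow (fun k => fs1 (Nat.add (Nat.succ 18820) k)) 2214 = true := by decide +kernel
theorem s1u8 : ∀ v, 1 ≤ v → v ≤ 21034 → fs1 v = true := slots_step fs1 18820 2214 21034 s1u7 s1c8 rfl
theorem s1c9 : allBelow (fun k => fs1 (Nat.add (Nat.succ 21034) k)) 2188 = true := by decide +kernel
theorem s1u9 : ∀ v, 1 ≤ v → v ≤ 23222 → fs1 v = true := slots_step fs1 21034 2188 23222 s1u8 s1c9 rfl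
theorem s1c10 : allBelow (fun k => fs1 (Nat.add (Nat.succ 23222) k)) 2004 = true := by decide +kernel
theorem s1u10 : ∀ v, 1 ≤ v → v ≤ 25226 → fs1 v = true := slots_step fs1 23222 2004 25226 s1u9 s1c10 rfl
theorem s2c0 : allBelow (fun k => fs2 (Nat.add (Nat.succ 0) k)) 2453 = true := by decide +kernel
theorem s2u0 : ∀ v, 1 ≤ v → v ≤ 2453 → fs2 v = true := slots_step fs2 0 2453 2453 (slots_zero fs2) s2c0 rfl
theorem s2c1 : allBelow (fun k => fs2 (Nat.add (Nat.succ 2453) k)) 2389 = true := by decide +kernel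
theorem s2u1 : ∀ v, 1 ≤ v → v ≤ 4842 → fs2 v = true := slots_step fs2 2453 2389 4842 s2u0 s2c1 rfl
theorem s2c2 : allBelow (fun k => fs2 (Nat.add (Nat.succ 4842) k)) 2414 = true := by decide +kernel
theorem s2u2 : ∀ v, 1 ≤ v → v ≤ 7256 → fs2 v = true := slots_step fs2 4842 2414 7256 s2u1 s2c2 rfl
theorem s2c3 : allBelow (fun k => fs2 (Nat.add (Nat.succ 7256) k)) 2394 = true := by decide +kernel
theorem s2u3 : ∀ v, 1 ≤ v → v ≤ 9650 → fs2 v = true := slots_step fs2 7256 2394 9650 s2u2 s2c3 rfl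
theorem s2c4 : allBelow (fun k => fs2 (Nat.add (Nat.succ 9650) k)) 2357 = true := by decide +kernel
theorem s2u4 : ∀ v, 1 ≤ v → v ≤ 12007 → fs2 v = true := slots_step fs2 9650 2357 12007 s2u3 s2c4 rfl
theorem s2c5 : allBelow (fun k => fs2 (Nat.add (Nat.succ 12007) k)) 2307 = true := by decide +kernel
theorem s2u5 : ∀ v, 1 ≤ v → v ≤ 14314 → fs2 v = true := slots_step fs2 12007 2307 14314 s2u4 s2c5 rfl
theorem s2c6 : allBelow (fun k => fs2 (Nat.add (Nat.succ 14314) k)) 2198 = true := by decide +kernel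
theorem s2u6 : ∀ v, 1 ≤ v → v ≤ 16512 → fs2 v = true := slots_step fs2 14314 2198 16512 s2u5 s2c6 rfl
theorem s2c7 : allBelow (fun k => fs2 (Nat.add (Nat.succ 16512) k)) 2139 = true := by decide +kernel
theorem s2u7 : ∀ v, 1 ≤ v → v ≤ 18651 → fs2 v = true := slots_step fs2 16512 2139 18651 s2u6 s2c7 rfl
theorem s2c8 : allBelow (fun k => fs2 (Nat.add (Nat.succ 18651) k)) 2022 = true := by decide +kernel
theorem s2u8 : ∀ v, 1 ≤ v → v ≤ 20673 → fs2 v = true := slots_step fs2 18651 2022 20673 s2u7 s2c8 rfl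
theorem s2c9 : allBelow (fun k => fs2 (Nat.add (Nat.succ 20673) k)) 1996 = true := by decide +kernel
theorem s2u9 : ∀ v, 1 ≤ v → v ≤ 22669 → fs2 v = true := slots_step fs2 20673 1996 22669 s2u8 s2c9 rfl
theorem s2c10 : allBelow (fun k => fs2 (Nat.add (Nat.succ 22669) k)) 1953 = true := by decide +kernel
theorem s2u10 : ∀ v, 1 ≤ v → v ≤ 24622 → fs2 v = true := slots_step fs2 22669 1953 24622 s2u9 s2c10 rfl
theorem s2c11 : allBelow (fun k => fs2 (Nat.add (Nat.succ 24622) k)) 604 = true := by decide +kernel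
theorem s2u11 : ∀ v, 1 ≤ v → v ≤ 25226 → fs2 v = true := slots_step fs2 24622 604 25226 s2u10 s2c11 rfl
theorem s3c0 : allBelow (fun k => fs3 (Nat.add (Nat.succ 0) k)) 2577 = true := by decide +kernel
theorem s3u0 : ∀ v, 1 ≤ v → v ≤ 2577 → fs3 v = true := slots_step fs3 0 2577 2577 (slots_zero fs3) s3c0 rfl
theorem s3c1 : allBelow (fun k => fs3 (Nat.add (Nat.succ 2577) k)) 2569 = true := by decide +kernel
theorem s3u1 : ∀ v, 1 ≤ v → v ≤ 5146 → fs3 v = true := slots_step fs3 2577 2569 5146 s3u0 s3c1 rfl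
theorem s3c2 : allBelow (fun k => fs3 (Nat.add (Nat.succ 5146) k)) 2589 = true := by decide +kernel
theorem s3u2 : ∀ v, 1 ≤ v → v ≤ 7735 → fs3 v = true := slots_step fs3 5146 2589 7735 s3u1 s3c2 rfl
theorem s3c3 : allBelow (fun k => fs3 (Nat.add (Nat.succ 7735) k)) 2472 = true := by decide +kernel
theorem s3u3 : ∀ v, 1 ≤ v → v ≤ 10207 → fs3 v = true := slots_step fs3 7735 2472 10207 s3u2 s3c3 rfl
theorem s3c4 : allBelow (fun k => fs3 (Nat.add (Nat.succ 10207) k)) 2387 = true := by decide +kernel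
theorem s3u4 : ∀ v, 1 ≤ v → v ≤ 12594 → fs3 v = true := slots_step fs3 10207 2387 12594 s3u3 s3c4 rfl
theorem s3c5 : allBelow (fun k => fs3 (Nat.add (Nat.succ 12594) k)) 2277 = true := by decide +kernel
theorem s3u5 : ∀ v, 1 ≤ v → v ≤ 14871 → fs3 v = true := slots_step fs3 12594 2277 14871 s3u4 s3c5 rfl
theorem s3c6 : allBelow (fun k => fs3 (Nat.add (Nat.succ 14871) k)) 2217 = true := by decide +kernel
theorem s3u6 : ∀ v, 1 ≤ v → v ≤ 17088 → fs3 v = true := slots_step fs3 14871 2217 17088 s3u5 s3c6 rfl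
theorem s3c7 : allBelow (fun k => fs3 (Nat.add (Nat.succ 17088) k)) 2119 = true := by decide +kernel
theorem s3u7 : ∀ v, 1 ≤ v → v ≤ 19207 → fs3 v = true := slots_step fs3 17088 2119 19207 s3u6 s3c7 rfl
theorem s3c8 : allBelow (fun k => fs3 (Nat.add (Nat.succ 19207) k)) 2072 = true := by decide +kernel
theorem s3u8 : ∀ v, 1 ≤ v → v ≤ 21279 → fs3 v = true := slots_step fs3 19207 2072 21279 s3u7 s3c8 rfl
theorem s3c9 : allBelow (fun k => fs3 (Nat.add (Nat.succ 21279) k)) 2044 = true := by decide +kernel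
theorem s3u9 : ∀ v, 1 ≤ v → v ≤ 23323 → fs3 v = true := slots_step fs3 21279 2044 23323 s3u8 s3c9 rfl
theorem s3c10 : allBelow (fun k => fs3 (Nat.add (Nat.succ 23323) k)) 1903 = true := by decide +kernel
theorem s3u10 : ∀ v, 1 ≤ v → v ≤ 25226 → fs3 v = true := slots_step fs3 23323 1903 25226 s3u9 s3c10 rfl
theorem s4c0 : allBelow (fun k => fs4 (Nat.add (Nat.succ 0) k)) 2526 = true := by decide +kernel
theorem s4u0 : ∀ v, 1 ≤ v → v ≤ 2526 → fs4 v = true := slots_step fs4 0 2526 2526 (slots_zero fs4) s4c0 rfl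
theorem s4c1 : allBelow (fun k => fs4 (Nat.add (Nat.succ 2526) k)) 2491 = true := by decide +kernel
theorem s4u1 : ∀ v, 1 ≤ v → v ≤ 5017 → fs4 v = true := slots_step fs4 2526 2491 5017 s4u0 s4c1 rfl
theorem s4c2 : allBelow (fun k => fs4 (Nat.add (Nat.succ 5017) k)) 2506 = true := by decide +kernel
theorem s4u2 : ∀ v, 1 ≤ v → v ≤ 7523 → fs4 v = true := slots_step fs4 5017 2506 7523 s4u1 s4c2 rfl
theorem s4c3 : allBelow (fun k => fs4 (Nat.add (Nat.succ 7523) k)) 2495 = true := by decide +kernel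
theorem s4u3 : ∀ v, 1 ≤ v → v ≤ 10018 → fs4 v = true := slots_step fs4 7523 2495 10018 s4u2 s4c3 rfl
theorem s4c4 : allBelow (fun k => fs4 (Nat.add (Nat.succ 10018) k)) 2500 = true := by decide +kernel
theorem s4u4 : ∀ v, 1 ≤ v → v ≤ 12518 → fs4 v = true := slots_step fs4 10018 2500 12518 s4u3 s4c4 rfl
theorem s4c5 : allBelow (fun k => fs4 (Nat.add (Nat.succ 12518) k)) 2389 = true := by decide +kernel
theorem s4u5 : ∀ v, 1 ≤ v → v ≤ 14907 → fs4 v = true := slots_step fs4 12518 2389 14907 s4u4 s4c5 rfl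
theorem s4c6 : allBelow (fun k => fs4 (Nat.add (Nat.succ 14907) k)) 2347 = true := by decide +kernel
theorem s4u6 : ∀ v, 1 ≤ v → v ≤ 17254 → fs4 v = true := slots_step fs4 14907 2347 17254 s4u5 s4c6 rfl
theorem s4c7 : allBelow (fun k => fs4 (Nat.add (Nat.succ 17254) k)) 2307 = true := by decide +kernel
theorem s4u7 : ∀ v, 1 ≤ v → v ≤ 19561 → fs4 v = true := slots_step fs4 17254 2307 19561 s4u6 s4c7 rfl
theorem s4c8 : allBelow (fun k => fs4 (Nat.add (Nat.succ 19561) k)) 2223 = true := by decide +kernel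
theorem s4u8 : ∀ v, 1 ≤ v → v ≤ 21784 → fs4 v = true := slots_step fs4 19561 2223 21784 s4u7 s4c8 rfl
theorem s4c9 : allBelow (fun k => fs4 (Nat.add (Nat.succ 21784) k)) 2203 = true := by decide +kernel
theorem s4u9 : ∀ v, 1 ≤ v → v ≤ 23987 → fs4 v = true := slots_step fs4 21784 2203 23987 s4u8 s4c9 rfl
theorem s4c10 : allBelow (fun k => fs4 (Nat.add (Nat.succ 23987) k)) 1239 = true := by decide +kernel
theorem s4u10 : ∀ v, 1 ≤ v → v ≤ 25226 → fs4 v = true := slots_step fs4 23987 1239 25226 s4u9 s4c10 rfl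
theorem s5c0 : allBelow (fun k => fs5 (Nat.add (Nat.succ 0) k)) 2611 = true := by decide +kernel
theorem s5u0 : ∀ v, 1 ≤ v → v ≤ 2611 → fs5 v = true := slots_step fs5 0 2611 2611 (slots_zero fs5) s5c0 rfl
theorem s5c1 : allBelow (fun k => fs5 (Nat.add (Nat.succ 2611) k)) 2584 = true := by decide +kernel
theorem s5u1 : ∀ v, 1 ≤ v → v ≤ 5195 → fs5 v = true := slots_step fs5 2611 2584 5195 s5u0 s5c1 rfl
theorem s5c2 : allBelow (fun k => fs5 (Nat.add (Nat.succ 5195) k)) 2511 = true := by decide +kernel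
theorem s5u2 : ∀ v, 1 ≤ v → v ≤ 7706 → fs5 v = true := slots_step fs5 5195 2511 7706 s5u1 s5c2 rfl
theorem s5c3 : allBelow (fun k => fs5 (Nat.add (Nat.succ 7706) k)) 2508 = true := by decide +kernel
theorem s5u3 : ∀ v, 1 ≤ v → v ≤ 10214 → fs5 v = true := slots_step fs5 7706 2508 10214 s5u2 s5c3 rfl
theorem s5c4 : allBelow (fun k => fs5 (Nat.add (Nat.succ 10214) k)) 2459 = true := by decide +kernel
theorem s5u4 : ∀ v, 1 ≤ v → v ≤ 12673 → fs5 v = true := slots_step fs5 10214 2459 12673 s5u3 s5c4 rfl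
theorem s5c5 : allBelow (fun k => fs5 (Nat.add (Nat.succ 12673) k)) 2368 = true := by decide +kernel
theorem s5u5 : ∀ v, 1 ≤ v → v ≤ 15041 → fs5 v = true := slots_step fs5 12673 2368 15041 s5u4 s5c5 rfl
theorem s5c6 : allBelow (fun k => fs5 (Nat.add (Nat.succ 15041) k)) 2365 = true := by decide +kernel
theorem s5u6 : ∀ v, 1 ≤ v → v ≤ 17406 → fs5 v = true := slots_step fs5 15041 2365 17406 s5u5 s5c6 rfl
theorem s5c7 : allBelow (fun k => fs5 (Nat.add (Nat.succ 17406) k)) 2271 = true := by decide +kernel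
theorem s5u7 : ∀ v, 1 ≤ v → v ≤ 19677 → fs5 v = true := slots_step fs5 17406 2271 19677 s5u6 s5c7 rfl
theorem s5c8 : allBelow (fun k => fs5 (Nat.add (Nat.succ 19677) k)) 2216 = true := by decide +kernel
theorem s5u8 : ∀ v, 1 ≤ v → v ≤ 21893 → fs5 v = true := slots_step fs5 19677 2216 21893 s5u7 s5c8 rfl
theorem s5c9 : allBelow (fun k => fs5 (Nat.add (Nat.succ 21893) k)) 2164 = true := by decide +kernel
theorem s5u9 : ∀ v, 1 ≤ v → v ≤ 24057 → fs5 v = true := slots_step fs5 21893 2164 24057 s5u8 s5c9 rfl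
theorem s5c10 : allBelow (fun k => fs5 (Nat.add (Nat.succ 24057) k)) 1169 = true := by decide +kernel
theorem s5u10 : ∀ v, 1 ≤ v → v ≤ 25226 → fs5 v = true := slots_step fs5 24057 1169 25226 s5u9 s5c10 rfl
theorem s6c0 : allBelow (fun k => fs6 (Nat.add (Nat.succ 0) k)) 2563 = true := by decide +kernel
theorem s6u0 : ∀ v, 1 ≤ v → v ≤ 2563 → fs6 v = true := slots_step fs6 0 2563 2563 (slots_zero fs6) s6c0 rfl
theorem s6c1 : allBelow (fun k => fs6 (Nat.add (Nat.succ 2563) k)) 2596 = true := by decide +kernel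
theorem s6u1 : ∀ v, 1 ≤ v → v ≤ 5159 → fs6 v = true := slots_step fs6 2563 2596 5159 s6u0 s6c1 rfl
theorem s6c2 : allBelow (fun k => fs6 (Nat.add (Nat.succ 5159) k)) 2544 = true := by decide +kernel
theorem s6u2 : ∀ v, 1 ≤ v → v ≤ 7703 → fs6 v = true := slots_step fs6 5159 2544 7703 s6u1 s6c2 rfl
theorem s6c3 : allBelow (fun k => fs6 (Nat.add (Nat.succ 7703) k)) 2517 = true := by decide +kernel
theorem s6u3 : ∀ v, 1 ≤ v → v ≤ 10220 → fs6 v = true := slots_step fs6 7703 2517 10220 s6u2 s6c3 rfl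
theorem s6c4 : allBelow (fun k => fs6 (Nat.add (Nat.succ 10220) k)) 2456 = true := by decide +kernel
theorem s6u4 : ∀ v, 1 ≤ v → v ≤ 12676 → fs6 v = true := slots_step fs6 10220 2456 12676 s6u3 s6c4 rfl
theorem s6c5 : allBelow (fun k => fs6 (Nat.add (Nat.succ 12676) k)) 2378 = true := by decide +kernel
theorem s6u5 : ∀ v, 1 ≤ v → v ≤ 15054 → fs6 v = true := slots_step fs6 12676 2378 15054 s6u4 s6c5 rfl
theorem s6c6 : allBelow (fun k => fs6 (Nat.add (Nat.succ 15054) k)) 2375 = true := by decide +kernel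
theorem s6u6 : ∀ v, 1 ≤ v → v ≤ 17429 → fs6 v = true := slots_step fs6 15054 2375 17429 s6u5 s6c6 rfl
theorem s6c7 : allBelow (fun k => fs6 (Nat.add (Nat.succ 17429) k)) 2309 = true := by decide +kernel
theorem s6u7 : ∀ v, 1 ≤ v → v ≤ 19738 → fs6 v = true := slots_step fs6 17429 2309 19738 s6u6 s6c7 rfl
theorem s6c8 : allBelow (fun k => fs6 (Nat.add (Nat.succ 19738) k)) 2244 = true := by decide +kernel
theorem s6u8 : ∀ v, 1 ≤ v → v ≤ 21982 → fs6 v = true := slots_step fs6 19738 2244 21982 s6u7 s6c8 rfl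
theorem s6c9 : allBelow (fun k => fs6 (Nat.add (Nat.succ 21982) k)) 2201 = true := by decide +kernel
theorem s6u9 : ∀ v, 1 ≤ v → v ≤ 24183 → fs6 v = true := slots_step fs6 21982 2201 24183 s6u8 s6c9 rfl
theorem s6c10 : allBelow (fun k => fs6 (Nat.add (Nat.succ 24183) k)) 1043 = true := by decide +kernel
theorem s6u10 : ∀ v, 1 ≤ v → v ≤ 25226 → fs6 v = true := slots_step fs6 24183 1043 25226 s6u9 s6c10 rfl
theorem s7c0 : allBelow (fun k => fs7 (Nat.add (Nat.succ 0) k)) 6522 = true := by decide +kernel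
theorem s7u0 : ∀ v, 1 ≤ v → v ≤ 6522 → fs7 v = true := slots_step fs7 0 6522 6522 (slots_zero fs7) s7c0 rfl
theorem s7c1 : allBelow (fun k => fs7 (Nat.add (Nat.succ 6522) k)) 6459 = true := by decide +kernel
theorem s7u1 : ∀ v, 1 ≤ v → v ≤ 12981 → fs7 v = true := slots_step fs7 6522 6459 12981 s7u0 s7c1 rfl
theorem s7c2 : allBelow (fun k => fs7 (Nat.add (Nat.succ 12981) k)) 6725 = true := by decide +kernel
theorem s7u2 : ∀ v, 1 ≤ v → v ≤ 19706 → fs7 v = true := slots_step fs7 12981 6725 19706 s7u1 s7c2 rfl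
theorem s7c3 : allBelow (fun k => fs7 (Nat.add (Nat.succ 19706) k)) 5520 = true := by decide +kernel
theorem s7u3 : ∀ v, 1 ≤ v → v ≤ 25226 → fs7 v = true := slots_step fs7 19706 5520 25226 s7u2 s7c3 rfl
theorem gz : countBelow gl 0 = 0 := rfl
theorem gk0 : countBelow (fun k => gl (Nat.add 0 k)) 13675 = 13464 := by decide +kernel
theorem gn0 : countBelow gl 13675 = 13464 := countBelow_step gl 0 13675 13675 0 13464 13464 gz gk0 rfl rfl
theorem gk1 : countBelow (fun k => gl (Nat.add 13675 k)) 11551 = 11526 := by decide +kernel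
theorem gn1 : countBelow gl 25226 = 24990 := countBelow_step gl 13675 11551 25226 13464 11526 24990 gn0 gk1 rfl rfl

end Cfsg.Agent.Lib.Helper35.HeOrd.U0
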